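import Groth.Agent.EtMVLib.ExtTools
import Groth.Agent.EtMVLib.HpullApply
import Groth.Agent.EtAcycLib.Compose
import Groth.Agent.EtFound.PushLocConst
import Groth.Agent.EtFound.PushExact
import Groth.Agent.EtFound.JContGen
import Groth.Agent.EtFound.PullStalk
import Groth.Agent.EtFound.Strata
import Groth.Agent.H9Transfer.Compose
import Groth.Agent.H9Transfer.Kill
import Groth.Agent.EtFiltr5.Stalks
import Groth.Agent.S8536
import Groth.Agent.GalCd5.Basic
import Mathlib.Topology.Connected.CardComponents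

/-! the property of being a `K(π,1)` is invariant under finite etale covers -/

set_option autoImplicit false
set_option linter.unusedSectionVars false
set_option linter.style.haveILetI false
set_option backward.isDefEq.respectTransparency false
set_option backward.isDefEq.respectTransparency.types false

universe u

open CategoryTheory CategoryTheory.Limits AlgebraicGeometry Opposite Abelian

noncomputable section

namespace Groth.Agent.EtKPi5

open Groth.Agent.EtFound

attribute [local instance] EtFound.pull_preservesFiniteLimits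

variable {X Y : Scheme.{u}} (f : X ⟶ Y)

theorem finite_components [IsFinite f] [Etale f] (h : Finite (_root_.ConnectedComponents ↥Y)) :
    Finite (_root_.ConnectedComponents ↥X) :=
  IsOpenMap.finite_connectedComponents_of_finite_preimage_singleton f.isOpenMap f.isClosedMap f.continuous
    f.finite_preimage_singleton

theorem killedBy_map {n : ℕ} (F : EtCoh.Ab Y ⥤ EtCoh.Ab X) [F.Additive] {G : EtCoh.Ab Y} (h : EtCoh.KilledBy n G) :
    EtCoh.KilledBy n (F.obj G) :=
  fun U s => H9Transfer.nsmul_sect_eq_zero (GalCd5.killed_map F G n (EtFiltr5.killed_of_killedBy h)) U s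

section push

variable [IsFinite f]

/-- every class comes from the direct image -/
theorem exists_push_class (F : EtCoh.Ab X) (q : ℕ) (ζ : EtCoh.H X F q) :
    ∃ η : EtCoh.H Y ((EtCoh.push f).obj F) q,
      (EtCore.Hpull f _ q η).comp (Ext.mk₀ ((EtCoh.pullPushAdj f).counit.app F)) (add_zero q) = ζ := by
  haveI := EtFound.push_preservesFiniteLimits f
  haveI := EtFound.push_preservesFiniteColimits f
  haveI := (EtCoh.pullPushAdj f).leftAdjoint_preservesColimits
  haveI : PreservesFiniteColimits (EtCoh.pull f) := inferInstance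
  haveI := (EtCoh.pullPushAdj f).left_adjoint_additive
  haveI := (EtCoh.pullPushAdj f).right_adjoint_additive
  let adj := EtCoh.pullPushAdj f
  let α : Ext ((EtCoh.pull f).obj (EtCoh.const Y ℤ)) F q :=
    (Ext.mk₀ (EtCore.pullConst f ℤ).hom).comp ζ (zero_add q)
  refine ⟨EtMVLib.adjExtMap adj (EtCoh.const Y ℤ) F q α, ?_⟩
  rw [EtMVLib.Hpull_apply]
  show ((Ext.mk₀ _).comp (((Ext.mk₀ (adj.unit.app (EtCoh.const Y ℤ))).comp (α.mapExactFunctor (EtCoh.push f))
    (zero_add q)).mapExactFunctor (EtCoh.pull f)) (zero_add q)).comp _ (add_zero q) = ζ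
  rw [Ext.mapExactFunctor_comp, Ext.mapExactFunctor_mk₀, Ext.mk₀_comp_mk₀_assoc, Ext.comp_assoc_of_third_deg_zero,
    ← EtMVLib.mapExactFunctor_functorComp]
  have := EtMVLib.mapExactFunctor_natTrans (EtCoh.push f ⋙ EtCoh.pull f) (𝟭 (EtCoh.Ab X)) adj.counit α
  erw [this]
  rw [EtMVLib.mapExactFunctor_id]
  erw [Ext.mk₀_comp_mk₀_assoc, Category.assoc, adj.left_triangle_components, Category.comp_id,
    Ext.mk₀_comp_mk₀_assoc, Iso.inv_hom_id, Ext.mk₀_id_comp]

end push

variable (P : Set ℕ) [IsFinite f] [Etale f] [Surjective f]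

/-- the condition of being a `K(π,1)` for `P`-torsion -/
def IsK (Z : Scheme.{u}) : Prop :=
  ∀ (F : EtCoh.Ab Z), EtCoh.IsFiniteLocallyConstant F →
    (∃ n : ℕ, 0 < n ∧ (∀ p : ℕ, p.Prime → p ∣ n → p ∈ P) ∧ EtCoh.KilledBy n F) →
    ∀ q : ℕ, 0 < q → ∀ ζ : EtCoh.H Z F q,
      ∃ (Z' : Scheme.{u}) (g : Z' ⟶ Z), IsFinite g ∧ Etale g ∧ Surjective g ∧
        ∀ [PreservesFiniteLimits (EtCoh.pull g)], EtCore.Hpull g F q ζ = 0

include f

theorem isK_up (h : IsK P Y) : IsK P X := by
  intro F hF ⟨n, hn, hP, hk⟩ q hq ζ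
  haveI := (EtCoh.pullPushAdj f).right_adjoint_additive
  have hk' : EtCoh.KilledBy n ((EtCoh.push f).obj F) :=
    fun U s => H9Transfer.nsmul_sect_eq_zero (GalCd5.killed_map (EtCoh.push f) F n (EtFiltr5.killed_of_killedBy hk)) U s
  obtain ⟨η, hη⟩ := exists_push_class f F q ζ
  obtain ⟨Y', g, hgf, hge, hgs, hg⟩ :=
    h ((EtCoh.push f).obj F) (EtFound.isFiniteLocallyConstant_push f F hF) ⟨n, hn, hP, hk'⟩ q hq η
  let p := pullback.fst f g
  let g' := pullback.snd f g
  refine ⟨pullback f g, p, inferInstance, inferInstance, inferInstance, ?_⟩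
  intro _
  haveI := EtFound.pull_preservesFiniteLimits g
  haveI := EtFound.pull_preservesFiniteLimits g'
  haveI := EtFound.pull_preservesFiniteLimits (p ≫ f)
  rw [← hη, S8536.Hpull_comp_mk₀,
    H9Transfer.Hpull_Hpull_eq_zero p f (p ≫ f) rfl η
      (H9Transfer.mapExact_comp_eq_zero g' g (p ≫ f) pullback.condition.symm η hg), Ext.zero_comp]

theorem isK_down (h : IsK P X) : IsK P Y := by
  intro F hF ⟨n, hn, hP, hk⟩ q hq ζ
  haveI := (EtCoh.pullPushAdj f).left_adjoint_additive
  have hk' : EtCoh.KilledBy n ((EtCoh.pull f).obj F) :=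
    fun U s => H9Transfer.nsmul_sect_eq_zero (GalCd5.killed_map (EtCoh.pull f) F n (EtFiltr5.killed_of_killedBy hk)) U s
  obtain ⟨X', g, hgf, hge, hgs, hg⟩ :=
    h _ (EtFound.isFiniteLocallyConstant_pull f hF) ⟨n, hn, hP, hk'⟩ q hq (EtCore.Hpull f F q ζ)
  refine ⟨X', g ≫ f, inferInstance, inferInstance, inferInstance, ?_⟩
  intro _
  haveI := EtFound.pull_preservesFiniteLimits g
  rw [← EtAcycLib.Hpull_comp g f (g ≫ f) rfl, hg, Ext.zero_comp]

theorem main [CompactSpace ↥Y] [QuasiSeparatedSpace ↥Y] (hconn : Finite (_root_.ConnectedComponents ↥Y)) :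
    (CompactSpace ↥X ∧ QuasiSeparatedSpace ↥X ∧ Finite (_root_.ConnectedComponents ↥X)) ∧ (IsK P Y ↔ IsK P X) :=
  ⟨⟨QuasiCompact.compactSpace_of_compactSpace f, quasiSeparatedSpace_of_quasiSeparated f, finite_components f hconn⟩,
    isK_up f P, isK_down f P⟩

end Groth.Agent.EtKPi5
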